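import Mathlib
import Cfsg.Agent.S0215
import Cfsg.Agent.Lib.FischerMTypes.Prime.Basic
import Cfsg.Agent.Lib.FischerMTypes.InvolutionsM22

/-!
Tools for the subgroups of large prime order in the groups of types M(23) and M(24).
-/

set_option autoImplicit false
set_option linter.style.haveILetI false
set_option linter.unusedSectionVars false

namespace Cfsg.Agent.Lib.FischerMTypes.Large

open Cfsg.Agent.Lib.FischerMTypes.Basic Cfsg.Agent.Lib.FischerMTypes.Primitive
open Cfsg.Agent.Lib.FischerMTypes.Eleven (card_eq_orbit_mul mem_normalizer_of_conj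
  conj_mem_of_mem_normalizer)
open Cfsg.Agent.Lib.FischerMTypes.PrimeOnce

universe u

variable {G : Type u} [Group G] [Finite G]

/-- an element of prime order fixes a member of any stable set of size prime to it -/
theorem exists_fixed_elem {p : ℕ} [Fact p.Prime] {x : G} (hx : x ^ p = 1) {T : Set G}
    (hT : ∀ t ∈ T, x * t * x⁻¹ ∈ T) (hc : ¬ p ∣ T.ncard) : ∃ t ∈ T, Commute x t := by
  classical
  let : Fintype T := Fintype.ofFinite T
  let f : T → T := fun t => ⟨x * t.1 * x⁻¹, hT t.1 t.2⟩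
  have hf : Function.Injective f := fun a b h => Subtype.ext (by
    have := congrArg Subtype.val h
    simpa [f] using this)
  let σ : Equiv.Perm T := Equiv.ofBijective f (Finite.injective_iff_bijective.mp hf)
  have hiter : ∀ (k : ℕ) (t : T), ((σ ^ k) t : G) = x ^ k * t.1 * (x ^ k)⁻¹ := by
    intro k
    induction k with
    | zero => simp
    | succ k ih =>
      intro t
      rw [pow_succ', Equiv.Perm.mul_apply]
      show x * ((σ ^ k) t : G) * x⁻¹ = _
      rw [ih, pow_succ']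
      group
  have hσ : σ ^ p ^ 1 = 1 := by
    rw [pow_one]
    refine Equiv.ext fun t => Subtype.ext ?_
    rw [hiter, hx]
    simp
  obtain ⟨t, ht⟩ := Equiv.Perm.exists_fixed_point_of_prime (p := p) (n := 1)
    (by rwa [← Nat.card_eq_fintype_card, Nat.card_coe_set_eq]) hσ
  exact ⟨t.1, t.2, mul_inv_eq_iff_eq_mul.mp (congrArg Subtype.val ht)⟩

/-- every element commuting with `y` permutes the members centralised by `y` -/
theorem conj_fixed_of_commute {D : Set G} (hconj : ∀ g : G, ∀ d ∈ D, g * d * g⁻¹ ∈ D) {x : G}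
    {S : Subgroup G} (hx : ∀ s ∈ S, Commute x s) {t : G}
    (ht : t ∈ D ∩ (Subgroup.centralizer (S : Set G) : Set G)) :
    x * t * x⁻¹ ∈ D ∩ (Subgroup.centralizer (S : Set G) : Set G) := by
  refine ⟨hconj x t ht.1, ?_⟩
  rw [SetLike.mem_coe, Subgroup.mem_centralizer_iff]
  intro s hs
  have h1 : Commute s x := (hx s hs).symm
  have h2 : Commute s t := Subgroup.mem_centralizer_iff.mp ht.2 s hs
  exact ((h1.mul_right h2).mul_right h1.inv_right).eq

/-- pairwise non-commuting transpositions, closed: no prime other than two and three divides their number -/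
theorem not_dvd_noncomm {D : Set G} (hD : Cfsg.IsThreeTranspositionSet D) {T : Set G} (hTD : T ⊆ D)
    (hne : T.Nonempty) (hcl : ∀ a ∈ T, ∀ b ∈ T, a * b * a ∈ T)
    (hnc : ∀ a ∈ T, ∀ b ∈ T, Commute a b → a = b) {q : ℕ} [hq : Fact q.Prime] (hq3 : q ≠ 3) :
    ¬ q ∣ T.ncard := by
  obtain ⟨a, ha⟩ := hne
  have hTset : IsClosedSet T :=
    ⟨⟨fun x hx => hD.1 x (hTD hx), fun x hx y hy => hD.2 x (hTD hx) y (hTD hy)⟩, hcl⟩
  have haa : a * a = 1 := mul_self hD (hTD ha)
  set H := Subgroup.closure T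
  set a' : H := ⟨a, Subgroup.subset_closure ha⟩
  have ha' : orderOf a' = 2 := by rw [← Subgroup.orderOf_coe]; exact hD.1 a (hTD ha)
  have : Fact (Nat.Prime 2) := ⟨Nat.prime_two⟩
  obtain ⟨P, hP⟩ := (IsPGroup.of_card (p := 2) (n := 1)
    (by rw [Nat.card_zpowers, ha']; rfl) : IsPGroup 2 (Subgroup.zpowers a')).exists_le_sylow
  have haP : a' ∈ P := hP (Subgroup.mem_zpowers a')
  have hconjT : ∀ g : H, (g : G) * a * (g : G)⁻¹ ∈ T := fun g => conj_mem_of_mem_closure hTset g.2 a ha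
  -- `a` is isolated
  have hiso : ∀ g : H, g * a' * g⁻¹ ∈ P → g * a' * g⁻¹ = a' := by
    intro g hg
    refine Subtype.ext ?_
    show (g : G) * a * (g : G)⁻¹ = a
    by_cases hc : Commute a ((g : G) * a * (g : G)⁻¹)
    · exact (hnc a ha _ (hconjT g) hc).symm
    · exfalso
      obtain ⟨k, hk⟩ := P.2 ⟨a' * (g * a' * g⁻¹), mul_mem haP hg⟩
      have hk' : (a * ((g : G) * a * (g : G)⁻¹)) ^ 2 ^ k = 1 := congrArg (fun z : P => ((z : H) : G)) hk
      have h3 : (a * ((g : G) * a * (g : G)⁻¹)) ^ 3 = 1 :=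
        Basic.cube_eq_one hD (hTD ha) (hTD (hconjT g)) hc
      have h1 := pow_gcd_eq_one.mpr ⟨hk', h3⟩
      rw [Nat.Coprime.gcd_eq_one (Nat.Coprime.pow_left k (by norm_num : Nat.Coprime 2 3)), pow_one] at h1
      rw [eq_inv_of_mul_eq_one_right h1] at hc
      exact hc (Commute.refl a).inv_right
  obtain ⟨N, hN, hodd, hcomm⟩ := S0215.result P a' ha' haP hiso
  set N' := N.map H.subtype
  have hoddN : Odd (Nat.card N') := by rwa [Subgroup.card_subtype]
  have hmemN : ∀ b ∈ T, a * b ∈ N' := by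
    intro b hb
    by_cases hab : b = a
    · subst hab
      rw [haa]
      exact one_mem _
    have hc : ¬ Commute a b := fun hc => hab (hnc a ha b hb hc).symm
    have h3 := Basic.cube_eq_one hD (hTD ha) (hTD hb) hc
    refine ⟨_, hcomm ⟨a * b, mul_mem (Subgroup.subset_closure ha) (Subgroup.subset_closure hb)⟩, ?_⟩
    show a * (a * b) * a⁻¹ * (a * b)⁻¹ = a * b
    have h3' : (b * a) ^ 3 = 1 := Basic.cube_eq_one hD (hTD hb) (hTD ha) fun h => hc h.symm
    calc a * (a * b) * a⁻¹ * (a * b)⁻¹ = a * a * b * a⁻¹ * b⁻¹ * a⁻¹ := by group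
      _ = b * a * (b * a) := by rw [haa, one_mul, inv_eq hD (hTD ha), inv_eq hD (hTD hb), mul_assoc]
      _ = (b * a) ^ 3 * (b * a)⁻¹ := by rw [pow_succ, mul_inv_cancel_right, pow_two]
      _ = a * b := by rw [h3', one_mul, mul_inv_rev, inv_eq hD (hTD ha), inv_eq hD (hTD hb)]
  -- `N` is transitive on `T`
  have hcard : Nat.card N' = T.ncard * Nat.card (N' ⊓ Subgroup.centralizer ({a} : Set G) : Subgroup G) := by
    refine card_eq_orbit_mul (fun h hh => ?_) fun b hb => ⟨a * b, hmemN b hb, ?_⟩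
    · obtain ⟨g, -, rfl⟩ := hh
      exact hconjT g
    · by_cases hab : b = a
      · subst hab; rw [haa]; simp
      have hc : ¬ Commute a b := fun hc => hab (hnc a ha b hb hc).symm
      have h3 := Basic.cube_eq_one hD (hTD ha) (hTD hb) hc
      rw [mul_inv_rev, inv_eq hD (hTD ha), inv_eq hD (hTD hb)]
      calc a * b * a * (b * a) = (a * b) ^ 3 * b := by
            simp [pow_succ, mul_assoc]
            rw [mul_self hD (hTD hb)]
        _ = b := by rw [h3, one_mul]
  intro hdvd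
  -- a member of `T` normalises a Sylow subgroup of `N'`
  obtain ⟨Q⟩ : Nonempty (Sylow q N') := inferInstance
  set Q' := (Q : Subgroup N').map N'.subtype
  have hconjN : ∀ n ∈ N', a * n * a⁻¹ ∈ N' := by
    rintro _ ⟨n, hn, rfl⟩
    exact ⟨a' * n * a'⁻¹, hN.conj_mem n hn a', rfl⟩
  let φ : N' ≃* N' :=
    { toFun := fun n => ⟨a * n.1 * a⁻¹, hconjN n.1 n.2⟩
      invFun := fun n => ⟨a * n.1 * a⁻¹, hconjN n.1 n.2⟩
      left_inv := fun n => Subtype.ext (by
        show a * (a * n.1 * a⁻¹) * a⁻¹ = n.1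
        rw [inv_eq hD (hTD ha)]
        calc a * (a * n.1 * a) * a = a * a * n.1 * (a * a) := by group
          _ = n.1 := by rw [haa, one_mul, mul_one])
      right_inv := fun n => Subtype.ext (by
        show a * (a * n.1 * a⁻¹) * a⁻¹ = n.1
        rw [inv_eq hD (hTD ha)]
        calc a * (a * n.1 * a) * a = a * a * n.1 * (a * a) := by group
          _ = n.1 := by rw [haa, one_mul, mul_one])
      map_mul' := fun n m => Subtype.ext (by
        show a * (n.1 * m.1) * a⁻¹ = a * n.1 * a⁻¹ * (a * m.1 * a⁻¹)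
        group) }
  obtain ⟨n, hn⟩ := MulAction.exists_smul_eq N' Q (Sylow.ofCard ((Q : Subgroup N').map φ.toMonoidHom) (by
    rw [← Nat.card_congr (Subgroup.equivMapOfInjective _ _ φ.injective).toEquiv]
    exact Q.card_eq_multiplicity))
  have hnQ : (Q : Subgroup N').map (MulAut.conj n).toMonoidHom = (Q : Subgroup N').map φ.toMonoidHom :=
    congrArg Sylow.toSubgroup hn
  set m := a * (n : G)
  have hmQ : ∀ z ∈ Q', m * z * m⁻¹ ∈ Q' := by
    rintro _ ⟨w, hw, rfl⟩
    obtain ⟨w', hw', he⟩ : n * w * n⁻¹ ∈ (Q : Subgroup N').map φ.toMonoidHom := hnQ ▸ ⟨w, hw, rfl⟩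
    refine ⟨w', hw', ?_⟩
    have he' : a * (w' : G) * a⁻¹ = (n : G) * w * (n : G)⁻¹ := congrArg Subtype.val he
    show (w' : G) = m * (w : G) * m⁻¹
    rw [show m * (w : G) * m⁻¹ = a * ((n : G) * w * (n : G)⁻¹) * a⁻¹ by simp only [m]; group, ← he',
      inv_eq hD (hTD ha)]
    calc (w' : G) = a * a * w' * (a * a) := by rw [haa, one_mul, mul_one]
      _ = a * (a * w' * a) * a := by group
  -- an involution in the coset, normalising `Q'`
  set c := Nat.card N'
  have hm2 : m ^ 2 ∈ N' := by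
    rw [pow_two, show m * m = a * (n : G) * a⁻¹ * (a * a) * n by simp only [m]; group, haa, mul_one]
    exact mul_mem (hconjN n.1 n.2) n.2
  set s := m ^ c
  have hss : s * s = 1 := by
    rw [← pow_add, ← two_mul, pow_mul]
    have : (⟨m ^ 2, hm2⟩ : N') ^ c = 1 := pow_card_eq_one'
    exact congrArg Subtype.val this
  have hsQ : ∀ z ∈ Q', s * z * s⁻¹ ∈ Q' := fun z hz =>
    conj_mem_of_mem_normalizer (pow_mem (mem_normalizer_of_conj hmQ) c) z hz
  obtain ⟨j, hj⟩ := hoddN
  -- the involution is `a * u` with `u` in `N'`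
  set u := a * s
  have hu : u ∈ N' := by
    show a * m ^ c ∈ N'
    rw [hj, pow_succ', pow_mul, ← mul_assoc, show a * m = n by simp only [m]; rw [← mul_assoc, haa, one_mul]]
    exact mul_mem n.2 (pow_mem hm2 j)
  have hus : a * u = s := by simp only [u]; rw [← mul_assoc, haa, one_mul]
  have hinv : a * u * a = u⁻¹ := by
    refine eq_inv_of_mul_eq_one_left ?_
    rw [show a * u * a * u = a * u * (a * u) by group, hus, hss]
  set v := u ^ (j + 1)
  have hv2 : v * v = u := by
    rw [← pow_add, show j + 1 + (j + 1) = c + 1 by omega, pow_succ]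
    have : (⟨u, hu⟩ : N') ^ c = 1 := pow_card_eq_one'
    rw [show u ^ c = 1 from congrArg Subtype.val this, one_mul]
  have hav : a * v = v⁻¹ * a := by
    have : (a * u * a⁻¹) ^ (j + 1) = a * v * a⁻¹ := conj_pow
    rw [inv_eq hD (hTD ha), hinv, inv_pow] at this
    rw [show v⁻¹ = a * v * a from this, mul_assoc _ a a, haa, mul_one]
  have hsT : s ∈ T := by
    rw [← hus, ← hv2, ← mul_assoc, hav]
    have hvH : v ∈ H := pow_mem (Subgroup.map_subtype_le N hu) _
    have := hconjT ⟨v⁻¹, inv_mem hvH⟩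
    simpa using this
  -- it centralises the Sylow subgroup
  have hzq : ∀ z ∈ Q', Commute s z := by
    intro z hz
    have hzN : z ∈ N' := Subgroup.map_subtype_le (Q : Subgroup N') hz
    set w := s * z * s⁻¹ * z⁻¹
    have hwQ : w ∈ Q' := mul_mem (hsQ z hz) (inv_mem hz)
    obtain ⟨k, hk⟩ : ∃ k, w ^ q ^ k = 1 := by
      obtain ⟨w', hw', hwe⟩ := hwQ
      obtain ⟨k, hk⟩ := Q.2 ⟨w', hw'⟩
      exact ⟨k, by rw [← hwe]; exact congrArg (fun t : (Q : Subgroup N') => ((t : N') : G)) hk⟩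
    have hzsT : z * s * z⁻¹ ∈ T :=
      conj_mem_of_mem_closure hTset (Subgroup.map_subtype_le N hzN) s hsT
    have hwe : w = s * (z * s * z⁻¹) := by
      show s * z * s⁻¹ * z⁻¹ = _
      rw [inv_eq hD (hTD hsT)]
      group
    have hw1 : w = 1 := by
      by_cases hc : Commute s (z * s * z⁻¹)
      · rw [hwe, ← hnc s hsT _ hzsT hc, hss]
      · have h3 := Basic.cube_eq_one hD (hTD hsT) (hTD hzsT) hc
        rw [← hwe] at h3
        have h1 := pow_gcd_eq_one.mpr ⟨hk, h3⟩
        rwa [Nat.Coprime.gcd_eq_one (Nat.Coprime.pow_left k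
          ((Nat.coprime_primes hq.out (by norm_num)).mpr hq3)), pow_one] at h1
    show s * z = z * s
    rw [mul_inv_eq_one, mul_inv_eq_iff_eq_mul] at hw1
    exact hw1
  have hcard' : Nat.card N' = T.ncard * Nat.card (N' ⊓ Subgroup.centralizer ({s} : Set G) : Subgroup G) := by
    refine card_eq_orbit_mul (fun h hh => conj_mem_of_mem_closure hTset (Subgroup.map_subtype_le N hh) s hsT)
      fun b hb => ?_
    have hsb : v⁻¹ * a * v = s := by rw [← hav, mul_assoc, hv2, hus]
    obtain ⟨g, hg, hgb⟩ : ∃ g ∈ N', g * a * g⁻¹ = b := by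
      by_cases hab : b = a
      · exact ⟨1, one_mem _, by simp [hab]⟩
      have hc : ¬ Commute a b := fun hc => hab (hnc a ha b hb hc).symm
      have h3 := Basic.cube_eq_one hD (hTD ha) (hTD hb) hc
      refine ⟨a * b, hmemN b hb, ?_⟩
      rw [mul_inv_rev, inv_eq hD (hTD ha), inv_eq hD (hTD hb)]
      calc a * b * a * (b * a) = (a * b) ^ 3 * b := by
            simp [pow_succ, mul_assoc]
            rw [mul_self hD (hTD hb)]
        _ = b := by rw [h3, one_mul]
    refine ⟨g * v, mul_mem hg (pow_mem hu _), ?_⟩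
    rw [← hsb, ← hgb]
    group
  have hQcard : Nat.card Q' = q ^ (Nat.card N').factorization q := by
    rw [Subgroup.card_subtype, Q.card_eq_multiplicity]
  have hd1 : q ^ (Nat.card N').factorization q ∣
      Nat.card (N' ⊓ Subgroup.centralizer ({s} : Set G) : Subgroup G) := by
    rw [← hQcard]
    exact Subgroup.card_dvd_of_le fun z hz => Subgroup.mem_inf.mpr
      ⟨Subgroup.map_subtype_le (Q : Subgroup N') hz,
        Subgroup.mem_centralizer_singleton_iff.mpr (hzq z hz).eq.symm⟩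
  refine Nat.pow_succ_factorization_not_dvd (Nat.card_pos (α := N')).ne' hq.out ?_
  conv_rhs => rw [hcard']
  rw [pow_succ']
  exact mul_dvd_mul hdvd hd1

/-- a transposition whose orbit under a `p`-group is short -/
theorem exists_stab_dvd {D : Set G} (hD : Cfsg.IsThreeTranspositionGroup D) {p b k : ℕ} [hp : Fact p.Prime]
    {R : Subgroup G} (hR : Nat.card R = p ^ b) (hk : ¬ p ^ (k + 1) ∣ D.ncard) :
    ∃ d ∈ D, p ^ (b - k) ∣ Nat.card (R ⊓ Subgroup.centralizer ({d} : Set G) : Subgroup G) := by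
  classical
  by_contra hcon
  push Not at hcon
  let : MulAction R D := MulAction.compHom D ((InvolutionsM22.conjPerm hD).comp R.subtype)
  let : Fintype D := Fintype.ofFinite D
  refine hk ?_
  rw [← Nat.card_coe_set_eq, Nat.card_congr (MulAction.selfEquivSigmaOrbits' R D), Nat.card_sigma]
  refine Finset.dvd_sum fun ω _ => ?_
  induction ω using Quotient.inductionOn' with | _ d => ?_
  rw [MulAction.orbitRel.Quotient.orbit_mk]
  have h1 : Nat.card (MulAction.orbit R d) * Nat.card (MulAction.stabilizer R d) = p ^ b := by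
    rw [← hR, Nat.card_congr (MulAction.orbitEquivQuotientStabilizer R d),
      ← Subgroup.card_eq_card_quotient_mul_card_subgroup]
  obtain ⟨i, hi, ho⟩ := (Nat.dvd_prime_pow hp.out).mp (Dvd.intro _ h1)
  rw [ho]
  refine pow_dvd_pow p ?_
  by_contra hik
  push Not at hik
  have hsize : Nat.card (MulAction.stabilizer R d) = p ^ (b - i) := by
    rw [ho, ← Nat.add_sub_cancel' hi, pow_add] at h1
    exact Nat.eq_of_mul_eq_mul_left (pow_pos hp.out.pos i) h1
  refine hcon d.1 d.2 ((pow_dvd_pow p (Nat.sub_le_sub_left (show i ≤ k by omega) b)).trans ?_)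
  rw [← hsize, ← Subgroup.card_subtype]
  refine Subgroup.card_dvd_of_le ?_
  rintro _ ⟨r, hr, rfl⟩
  refine Subgroup.mem_inf.mpr ⟨r.2, Subgroup.mem_centralizer_singleton_iff.mpr ?_⟩
  exact ((InvolutionsM22.conjPerm_fix_iff hD (r : G) d).mp hr).eq

/-- an element of prime order outside a normal subgroup normalising one of its Sylow subgroups -/
theorem exists_normalising {A M : Subgroup G} (hAM : A ≤ M)
    (hnorm : M ≤ Subgroup.normalizer (A : Set G)) {l q : ℕ} [hl : Fact l.Prime] [Fact q.Prime]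
    (hlM : l ∣ Nat.card M) (hlA : ¬ l ∣ Nat.card A) (P : Sylow q A) :
    ∃ z ∈ M, orderOf z = l ∧ ∀ y ∈ (P : Subgroup A).map A.subtype,
      z * y * z⁻¹ ∈ (P : Subgroup A).map A.subtype := by
  obtain ⟨⟨h, hhM⟩, hh⟩ := exists_prime_orderOf_dvd_card' (G := M) l hlM
  rw [← Subgroup.orderOf_coe] at hh
  set P' := (P : Subgroup A).map A.subtype
  have hconjA : ∀ g ∈ M, ∀ y ∈ A, g * y * g⁻¹ ∈ A := fun g hg =>
    conj_mem_of_mem_normalizer (hnorm hg)
  set Q := P'.map (MulAut.conj h).toMonoidHom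
  have hQA : Q ≤ A := by
    rintro _ ⟨y, hy, rfl⟩
    exact hconjA h hhM y (Subgroup.map_subtype_le _ hy)
  obtain ⟨a, ha⟩ := MulAction.exists_smul_eq A P (Sylow.ofCard (Q.subgroupOf A) (by
    rw [Nat.card_congr (Subgroup.subgroupOfEquivOfLe hQA).toEquiv,
      ← Nat.card_congr (Subgroup.equivMapOfInjective _ _ (MulAut.conj h).injective).toEquiv,
      Subgroup.card_subtype]
    exact P.card_eq_multiplicity))
  have ha' : (P : Subgroup A).map (MulAut.conj a).toMonoidHom = Q.subgroupOf A := congrArg Sylow.toSubgroup ha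
  set g := (a : G)⁻¹ * h
  have hgM : g ∈ M := mul_mem (inv_mem (hAM a.2)) hhM
  have hg : ∀ y ∈ P', g * y * g⁻¹ ∈ P' := by
    intro y hy
    have hm : (⟨h * y * h⁻¹, hconjA h hhM y (Subgroup.map_subtype_le _ hy)⟩ : A) ∈ Q.subgroupOf A :=
      ⟨y, hy, rfl⟩
    rw [← ha'] at hm
    obtain ⟨w, hw, he⟩ := hm
    refine ⟨w, hw, ?_⟩
    have he' : (a : G) * w * (a : G)⁻¹ = h * y * h⁻¹ := congrArg Subtype.val he
    show (w : G) = g * y * g⁻¹
    rw [show g * y * g⁻¹ = (a : G)⁻¹ * (h * y * h⁻¹) * a by simp only [g]; group, ← he']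
    group
  have hgl : g ^ l ∈ A := by
    suffices ∀ k, g ^ k * (h ^ k)⁻¹ ∈ A by
      have h1 := this l
      rwa [← hh, pow_orderOf_eq_one, inv_one, mul_one, hh] at h1
    intro k
    induction k with
    | zero => simp
    | succ k ih =>
      rw [pow_succ', pow_succ', show g * g ^ k * (h * h ^ k)⁻¹ = (a : G)⁻¹ * (h * (g ^ k * (h ^ k)⁻¹) * h⁻¹) by
        simp only [g]; group]
      exact mul_mem (inv_mem a.2) (hconjA h hhM _ ih)
  refine ⟨g ^ Nat.card A, pow_mem hgM _, orderOf_eq_prime ?_ ?_, fun y hy =>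
    conj_mem_of_mem_normalizer (pow_mem (mem_normalizer_of_conj hg) _) y hy⟩
  · rw [← pow_mul, mul_comm, pow_mul]
    have : (⟨g ^ l, hgl⟩ : A) ^ Nat.card A = 1 := pow_card_eq_one'
    exact congrArg Subtype.val this
  · intro h1
    have hgA : g ∈ A := by
      have hco : Nat.Coprime l (Nat.card A) := hl.out.coprime_iff_not_dvd.mpr hlA
      obtain ⟨u, v, huv⟩ : ∃ u v : ℤ, (l : ℤ) * u + (Nat.card A : ℤ) * v = 1 := by
        refine ⟨Nat.gcdA l (Nat.card A), Nat.gcdB l (Nat.card A), ?_⟩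
        rw [← Nat.gcd_eq_gcd_ab, hco.gcd_eq_one, Nat.cast_one]
      have e : g = (g ^ l) ^ u * (g ^ Nat.card A) ^ v := by
        rw [← zpow_natCast g l, ← zpow_natCast g (Nat.card A), ← zpow_mul, ← zpow_mul, ← zpow_add, huv, zpow_one]
      rw [e, h1, one_zpow, mul_one]
      exact zpow_mem hgl u
    have hhA : h ∈ A := by
      have := mul_mem a.2 hgA
      simpa [g] using this
    refine hlA ?_
    rw [← hh]
    exact Subgroup.orderOf_coe (⟨h, hhA⟩ : A) ▸ orderOf_dvd_natCard (⟨h, hhA⟩ : A)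

/-- a group generated by involutions has no normal complement to a subgroup of odd prime order -/
theorem normalizer_ne_centralizer {D : Set G} (hinv : ∀ d ∈ D, orderOf d = 2) (hgen : Subgroup.closure D = ⊤)
    {p : ℕ} [hp : Fact p.Prime] (hp2 : p ≠ 2) (h : Once p G) {X : Subgroup G} (hX : Nat.card X = p)
    (hN : Subgroup.normalizer (X : Set G) ≤ Subgroup.centralizer (X : Set G)) : False := by
  let P := Sylow.ofCard X (card_eq_pow h hX)
  have hP : Subgroup.normalizer ((P : Subgroup G) : Set G) ≤ Subgroup.centralizer ((P : Subgroup G) : Set G) := hN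
  let f := MonoidHom.transferSylow P hP
  have hc := (MonoidHom.ker_transferSylow_isComplement' P hP).card_mul
  have htop : f.ker = ⊤ := by
    rw [eq_top_iff, ← hgen, Subgroup.closure_le]
    intro d hd
    rw [SetLike.mem_coe, MonoidHom.mem_ker, ← orderOf_eq_one_iff]
    have h2 : orderOf (f d) ∣ 2 := (orderOf_map_dvd f d).trans (dvd_of_eq (hinv d hd))
    have hPc : Nat.card (P : Subgroup G) = p := hX
    have hp' : orderOf (f d) ∣ p := (orderOf_dvd_natCard (f d)).trans (dvd_of_eq hPc)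
    have := Nat.dvd_gcd h2 hp'
    rwa [Nat.Coprime.gcd_eq_one ((Nat.coprime_primes Nat.prime_two hp.out).mpr (Ne.symm hp2)),
      Nat.dvd_one] at this
  rw [show MonoidHom.ker (MonoidHom.transferSylow P hP) = ⊤ from htop, Subgroup.card_top,
    show Nat.card (P : Subgroup G) = p from hX] at hc
  exact hp.out.one_lt.ne' ((mul_eq_left₀ Nat.card_pos.ne').mp hc)

/-- transpositions centralised by an involution inverting a freely acting element -/
theorem ncard_fixed_inverted_le {D : Set G} (hconj : ∀ g : G, ∀ d ∈ D, g * d * g⁻¹ ∈ D) {g t : G} {n : ℕ}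
    (hn : orderOf g = n) (hodd : Odd n) (hinv : t * g * t⁻¹ = g⁻¹)
    (hfree : ∀ d ∈ D, ∀ k : ℕ, Commute (g ^ k) d → g ^ k = 1) :
    n * {y | y ∈ D ∧ Commute t y}.ncard ≤ D.ncard := by
  rw [← Nat.card_coe_set_eq, ← Nat.card_coe_set_eq D, ← Nat.card_fin n, ← Nat.card_prod]
  refine Nat.card_le_card_of_injective
    (fun p => (⟨g ^ (p.1 : ℕ) * p.2.1 * (g ^ (p.1 : ℕ))⁻¹, hconj _ _ p.2.2.1⟩ : D)) ?_
  rintro ⟨i, d, hd, hdt⟩ ⟨j, e, he, het⟩ h
  have h' : g ^ (i : ℕ) * d * (g ^ (i : ℕ))⁻¹ = g ^ (j : ℕ) * e * (g ^ (j : ℕ))⁻¹ := congrArg Subtype.val h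
  set w := g ^ ((i : ℤ) - j)
  have hde : w * d * w⁻¹ = e := by
    simp only [w, zpow_sub, zpow_natCast]
    rw [show g ^ (i : ℕ) * (g ^ (j : ℕ))⁻¹ = (g ^ (j : ℕ))⁻¹ * g ^ (i : ℕ) from
      ((Commute.pow_pow (Commute.refl g) i j).inv_right).eq]
    calc (g ^ (j : ℕ))⁻¹ * g ^ (i : ℕ) * d * ((g ^ (j : ℕ))⁻¹ * g ^ (i : ℕ))⁻¹ =
        (g ^ (j : ℕ))⁻¹ * (g ^ (i : ℕ) * d * (g ^ (i : ℕ))⁻¹) * g ^ (j : ℕ) := by group
      _ = e := by rw [h']; group
  have htw : t * w * t⁻¹ = w⁻¹ := by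
    simp only [w]
    rw [← conj_zpow, hinv, inv_zpow]
  have hwd : w⁻¹ * d * w = e := by
    have h1 : t * e * t⁻¹ = e := by rw [het.eq, mul_inv_cancel_right]
    have h2 : t * d * t⁻¹ = d := by rw [hdt.eq, mul_inv_cancel_right]
    rw [← h1, ← hde, show t * (w * d * w⁻¹) * t⁻¹ = (t * w * t⁻¹) * (t * d * t⁻¹) * (t * w * t⁻¹)⁻¹ by group,
      htw, h2, inv_inv]
  have hfin : IsOfFinOrder g := isOfFinOrder_of_finite g
  obtain ⟨k, hk⟩ : w ∈ Submonoid.powers g := hfin.mem_powers_iff_mem_zpowers.mpr ⟨_, rfl⟩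
  have hc : Commute (g ^ (2 * k)) d := by
    rw [mul_comm, pow_mul, show g ^ k = w from hk, pow_two]
    show w * w * d = d * (w * w)
    calc w * w * d = w * (w * d * w⁻¹) * w := by group
      _ = w * (w⁻¹ * d * w) * w := by rw [hde, hwd]
      _ = d * (w * w) := by group
  have hw2 : w ^ 2 = 1 := by
    have := hfree d hd _ hc
    rwa [mul_comm, pow_mul, show g ^ k = w from hk] at this
  have hwn : w ^ n = 1 := by rw [← hk, ← pow_mul, mul_comm, pow_mul, ← hn, pow_orderOf_eq_one, one_pow]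
  have hw : w = 1 := by
    have := pow_gcd_eq_one.mpr ⟨hw2, hwn⟩
    rwa [Nat.Coprime.gcd_eq_one (Nat.coprime_two_left.mpr hodd), pow_one] at this
  have hij : (i : ℕ) = j := by
    have hd' := orderOf_dvd_iff_zpow_eq_one.mpr hw
    rw [hn] at hd'
    have hlt : ((i : ℤ) - j).natAbs < n := by omega
    have := Int.eq_zero_of_dvd_of_natAbs_lt_natAbs hd' (by simpa using hlt)
    omega
  obtain rfl : i = j := Fin.ext hij
  have : d = e := by
    rw [hw] at hde
    simpa using hde
  subst this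
  rfl

end Cfsg.Agent.Lib.FischerMTypes.Large
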